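import Mathlib
import Cfsg.Prelude.Def_SubgroupEmbedding

/-!
# Extremely closed abelian 2-subgroups: two conjugates
-/

set_option autoImplicit false

namespace CfsgLib.LocalEven.ExtClosed

open Cfsg Subgroup

variable {G : Type*} [Group G] [Finite G] {H : Subgroup G}

omit [Finite G] in
theorem mem_map_conj {H : Subgroup G} {g x : G} :
    x ∈ H.map (MulAut.conj g).toMonoidHom ↔ g⁻¹ * x * g ∈ H := by
  constructor
  · rintro ⟨h, hh, rfl⟩
    show g⁻¹ * (g * h * g⁻¹) * g ∈ H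
    simpa [mul_assoc] using hh
  · exact fun h => ⟨_, h, by simp [mul_assoc]⟩

/-- If `H` is a Sylow 2-subgroup of `J` and `J` contains the conjugate of `H` by `g`, then
`g ∈ J N(H)`. -/
theorem exists_conj_normalizer (hH : IsPGroup 2 H) {J : Subgroup G} (hHJ : H ≤ J)
    (hodd : ¬ 2 ∣ H.relIndex J) {g : G} (hg : H.map (MulAut.conj g).toMonoidHom ≤ J) :
    ∃ j ∈ J, j⁻¹ * g ∈ normalizer (H : Set G) := by
  haveI : Fact (Nat.Prime 2) := ⟨Nat.prime_two⟩
  have hH' : IsPGroup 2 (H.subgroupOf J) := hH.comap_of_injective J.subtype J.subtype_injective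
  obtain ⟨P, hP⟩ : ∃ P : Sylow 2 J, (P : Subgroup J) = H.subgroupOf J :=
    ⟨hH'.toSylow hodd, rfl⟩
  have hgp : IsPGroup 2 ((H.map (MulAut.conj g).toMonoidHom).subgroupOf J) :=
    (hH.map _).comap_of_injective J.subtype J.subtype_injective
  obtain ⟨Q, hQ⟩ := hgp.exists_le_sylow
  obtain ⟨j, hj⟩ := MulAction.exists_smul_eq J P Q
  refine ⟨j, j.2, ?_⟩
  rw [mem_normalizer_iff_map_conj_eq]
  refine eq_of_le_of_card_ge ?_ (le_of_eq (card_map_of_injective (MulEquiv.injective _)).symm)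
  rintro x ⟨h, hh, rfl⟩
  have hmem : g * h * g⁻¹ ∈ H.map (MulAut.conj g).toMonoidHom := ⟨h, hh, rfl⟩
  have h1 : (⟨g * h * g⁻¹, hg hmem⟩ : J) ∈ (Q : Subgroup J) := hQ hmem
  rw [← hj, Sylow.coe_subgroup_smul, hP] at h1
  obtain ⟨w, hw, hw'⟩ := h1
  have h2 : (j : G) * (w : G) * (j : G)⁻¹ = g * h * g⁻¹ := congrArg Subtype.val hw'
  show (j : G)⁻¹ * g * h * ((j : G)⁻¹ * g)⁻¹ ∈ H
  convert (mem_subgroupOf.1 hw) using 1
  calc (j : G)⁻¹ * g * h * ((j : G)⁻¹ * g)⁻¹ = (j : G)⁻¹ * (g * h * g⁻¹) * j := by group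
    _ = w := by rw [← h2]; group

/-- The subgroup generated by two conjugates: an odd normal complement to `H`. -/
theorem exists_kernel (hH : IsPGroup 2 H) (hab : IsMulCommutative H) (hcl : IsExtremelyClosed H)
    (g : G) : ∃ K : Subgroup G, Odd (Nat.card K) ∧ H ≤ normalizer (K : Set G) ∧
      (∀ x ∈ H ⊔ H.map (MulAut.conj g).toMonoidHom, Odd (orderOf x) → x ∈ K) ∧
      H.map (MulAut.conj g).toMonoidHom ≤ K ⊔ H ∧
      ∃ u ∈ K, u ∈ H ⊔ H.map (MulAut.conj g).toMonoidHom ∧ u⁻¹ * g ∈ normalizer (H : Set G) := by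
  haveI : Fact (Nat.Prime 2) := ⟨Nat.prime_two⟩
  set L := H ⊔ H.map (MulAut.conj g).toMonoidHom with hL
  have hHL : H ≤ L := le_sup_left
  have hLN : ∀ x ∈ L, x ∈ normalizer (H : Set G) → x ∈ H := fun x hx hx' =>
    (hcl g).le ⟨hx, hx'⟩
  have hH' : IsPGroup 2 (H.subgroupOf L) := hH.comap_of_injective L.subtype L.subtype_injective
  have hnorm : normalizer ((H.subgroupOf L : Subgroup L) : Set L) = H.subgroupOf L := by
    refine le_antisymm ?_ le_normalizer
    intro x hx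
    refine hLN x.1 x.2 ?_
    rw [mem_normalizer_iff] at hx ⊢
    intro h
    constructor
    · exact fun hh => (hx ⟨h, hHL hh⟩).1 hh
    · intro hh
      have hmem : h ∈ L := by
        have := L.mul_mem (L.mul_mem (L.inv_mem x.2) (hHL hh)) x.2
        simpa [mul_assoc] using this
      exact (hx ⟨h, hmem⟩).2 hh
  obtain ⟨P, hP⟩ := hH'.exists_le_sylow
  have hPeq : (P : Subgroup L) = H.subgroupOf L := by
    by_contra hne
    have hlt : H.subgroupOf L < (P : Subgroup L) := lt_of_le_of_ne hP (Ne.symm hne)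
    haveI := P.2.isNilpotent
    have hlt' : (H.subgroupOf L).subgroupOf (P : Subgroup L) < ⊤ := by
      rw [lt_top_iff_ne_top, Ne, subgroupOf_eq_top]
      exact hlt.not_ge
    obtain ⟨x, hx, hx'⟩ :=
      SetLike.exists_of_lt (Group.normalizerCondition_of_isNilpotent _ hlt')
    apply hx'
    rw [mem_subgroupOf, ← hnorm, mem_normalizer_iff]
    intro w
    rw [mem_normalizer_iff] at hx
    constructor
    · exact fun hw => (hx ⟨w, hP hw⟩).1 hw
    · intro hw
      have hmem : w ∈ (P : Subgroup L) := by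
        have := (P : Subgroup L).mul_mem ((P : Subgroup L).mul_mem (inv_mem x.2) (hP hw)) x.2
        simpa [mul_assoc] using this
      exact (hx ⟨w, hmem⟩).2 hw
  have hNC : normalizer ((P : Subgroup L) : Set L) ≤ centralizer ((P : Subgroup L) : Set L) := by
    rw [hPeq, hnorm]
    intro x hx
    rw [mem_centralizer_iff]
    intro w hw
    apply Subtype.ext
    exact congrArg (fun t : H => (t : G))
      (hab.is_comm.comm ⟨_, mem_subgroupOf.1 hw⟩ ⟨_, mem_subgroupOf.1 hx⟩)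
  obtain ⟨K0, hK0n, hcompl, hK0odd, hK0max⟩ : ∃ K0 : Subgroup L, K0.Normal ∧
      IsComplement' K0 (P : Subgroup L) ∧ Odd (Nat.card K0) ∧
      ∀ x : L, Odd (orderOf x) → x ∈ K0 := by
    refine ⟨(MonoidHom.transferSylow P hNC).ker, MonoidHom.normal_ker _,
      MonoidHom.ker_transferSylow_isComplement' P hNC, ?_, fun x hx => ?_⟩
    · rw [← Nat.not_even_iff_odd, even_iff_two_dvd]
      exact MonoidHom.not_dvd_card_ker_transferSylow P hNC
    rw [MonoidHom.mem_ker, ← orderOf_eq_one_iff]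
    obtain ⟨n, hn⟩ := P.2 (MonoidHom.transferSylow P hNC x)
    exact Nat.eq_one_of_dvd_coprimes ((Nat.coprime_two_right.2 hx).pow_right n)
      (orderOf_map_dvd _ x) (orderOf_dvd_of_pow_eq_one hn)
  set K := K0.map L.subtype with hK
  have hKodd : Odd (Nat.card K) := by rwa [hK, card_map_of_injective L.subtype_injective]
  have hidx : ¬ 2 ∣ H.relIndex L := by
    show ¬ 2 ∣ (H.subgroupOf L).index
    rw [← hPeq]
    exact P.not_dvd_index
  have hsplit : ∀ x ∈ L, ∃ k ∈ K, ∃ h ∈ H, x = k * h := by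
    intro x hx
    obtain ⟨⟨k, h⟩, hkh⟩ := hcompl.2 ⟨x, hx⟩
    refine ⟨k.1.1, mem_map_of_mem _ k.2, h.1.1, ?_, (congrArg Subtype.val hkh).symm⟩
    exact mem_subgroupOf.1 (hPeq.le h.2)
  have hHK : H ≤ normalizer (K : Set G) := by
    intro h hh
    rw [mem_normalizer_iff]
    have key : ∀ (w : G), w ∈ L → ∀ x ∈ K, w * x * w⁻¹ ∈ K := by
      rintro w hw _ ⟨k, hk, rfl⟩
      exact ⟨⟨w, hw⟩ * k * ⟨w, hw⟩⁻¹, hK0n.conj_mem k hk _, rfl⟩
    refine fun x => ⟨key h (hHL hh) x, fun hx => ?_⟩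
    have := key h⁻¹ (L.inv_mem (hHL hh)) _ hx
    simpa [mul_assoc] using this
  refine ⟨K, hKodd, hHK, ?_, ?_, ?_⟩
  · intro x hx hodd
    exact ⟨⟨x, hx⟩, hK0max ⟨x, hx⟩ (by rwa [orderOf_mk]), rfl⟩
  · intro x hx
    obtain ⟨k, hk, h, hh, rfl⟩ := hsplit x (le_sup_right (a := H) hx)
    exact mul_mem (mem_sup_left hk) (mem_sup_right hh)
  · obtain ⟨j, hj, hjg⟩ := exists_conj_normalizer hH hHL hidx (le_sup_right (a := H))
    obtain ⟨k, hk, h, hh, rfl⟩ := hsplit j hj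
    refine ⟨k, hk, map_subtype_le K0 hk, ?_⟩
    have hn : h ∈ normalizer (H : Set G) := le_normalizer hh
    have e : k⁻¹ * g = h * ((k * h)⁻¹ * g) := by group
    rw [e]
    exact mul_mem hn hjg

end CfsgLib.LocalEven.ExtClosed
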