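import Mathlib

/-!
# Two commuting involutory automorphisms of a group of odd order

Every element is a product of elements fixed by `α`, by `β` and by `α * β`.
-/

set_option autoImplicit false

namespace CfsgLib.LocalEven.ExtClosed

variable {K : Type*} [Group K]

theorem exists_fixed_triple [Finite K] (hK : Odd (Nat.card K)) (α β : K →* K)
    (hα : ∀ x, α (α x) = x) (hβ : ∀ x, β (β x) = x) (hαβ : ∀ x, α (β x) = β (α x)) (u : K) :
    ∃ x y z : K, u = x * y * z ∧ α x = x ∧ β y = y ∧ α (β z) = z := by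
  obtain ⟨k, hk⟩ := hK
  set r : K → K := fun x => x ^ (k + 1) with hr
  have hN : ∀ x : K, x ^ (2 * k + 1) = 1 := fun x => by rw [← hk]; exact pow_card_eq_one'
  have hrr : ∀ x, r x * r x = x := fun x => by
    show x ^ (k + 1) * x ^ (k + 1) = x
    rw [← pow_add, show k + 1 + (k + 1) = 2 * k + 1 + 1 by omega, pow_succ, hN, one_mul]
  have huniq : ∀ x y : K, y * y = x → y = r x := fun x y h => by
    rw [← h]
    show y = (y * y) ^ (k + 1)
    rw [← pow_two, ← pow_mul, show 2 * (k + 1) = 2 * k + 1 + 1 by omega, pow_succ, hN, one_mul]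
  have hrmap : ∀ (f : K →* K) x, f (r x) = r (f x) := fun f x => map_pow f x (k + 1)
  have hrinv : ∀ x, r x⁻¹ = (r x)⁻¹ := fun x => inv_pow x (k + 1)
  set q := u⁻¹ * α u with hq
  have hαq : α q = q⁻¹ := by rw [hq, map_mul, map_inv, hα]; group
  set p := r q with hp
  have hpp : p * p = q := hrr q
  set m := p * (r (p * β q * p))⁻¹ * p with hm
  have hm1 : m⁻¹ * q * m⁻¹ = β q := by
    rw [hm]
    have h1 := hrr (p * β q * p)
    generalize r (p * β q * p) = s at h1 ⊢
    calc (p * s⁻¹ * p)⁻¹ * q * (p * s⁻¹ * p)⁻¹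
        = p⁻¹ * s * p⁻¹ * (p * p) * (p⁻¹ * s * p⁻¹) := by rw [hpp]; group
      _ = p⁻¹ * (s * s) * p⁻¹ := by group
      _ = β q := by rw [h1]; group
  have hm2 : ∀ w : K, w⁻¹ * q * w⁻¹ = β q → w = m := by
    intro w hw
    have h1 : p * w⁻¹ * p = r (p * β q * p) := by
      apply huniq
      rw [← hw, ← hpp]
      group
    rw [hm, ← h1]
    group
  have hαm : α m = m⁻¹ := by
    have h1 := congrArg α hm1
    simp only [map_mul, map_inv, hαq, hαβ q] at h1
    have h2 := hm2 (α m)⁻¹ (by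
      rw [inv_inv, ← inv_inj, ← h1]
      group)
    exact inv_injective (h2.trans (inv_inv m).symm)
  have hβm : β m = m⁻¹ := by
    have h1 := congrArg β hm1
    simp only [map_mul, map_inv, hβ] at h1
    have h2 := hm2 (β m)⁻¹ (by
      rw [inv_inv]
      conv_lhs => rw [← h1]
      group)
    exact inv_injective (h2.trans (inv_inv m).symm)
  set j := r m with hj
  have hjj : j * j = m := hrr m
  have hαj : α j = j⁻¹ := by rw [hj, hrmap, hαm, hrinv]
  have hβj : β j = j⁻¹ := by rw [hj, hrmap, hβm, hrinv]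
  set d := j⁻¹ * q * j⁻¹ with hd
  have hαd : α d = d⁻¹ := by
    rw [hd, map_mul, map_mul, map_inv, hαj, hαq]
    group
  have hβd : β d = d := by
    rw [hd, map_mul, map_mul, map_inv, hβj, ← hm1, ← hjj]
    group
  set y := r d⁻¹ with hy
  have hαy : α y = y⁻¹ := by rw [hy, hrmap, map_inv, hαd, ← hrinv, inv_inv]
  have hβy : β y = y := by rw [hy, hrmap, map_inv, hβd]
  have hyy : y * y = d⁻¹ := hrr _
  refine ⟨u * (j⁻¹)⁻¹ * y⁻¹, y, j⁻¹, by group, ?_, hβy, by rw [map_inv, hβj, inv_inv, hαj]⟩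
  rw [map_mul, map_mul, map_inv, map_inv, map_inv, hαj, hαy]
  have hu : α u = u * q := by rw [hq]; group
  have hq' : q = j * d * j := by rw [hd]; group
  have hd' : d = y⁻¹ * y⁻¹ := by rw [← inv_inv d, ← hyy]; group
  rw [hu, hq', hd']
  group

/-- The subgroup form of `exists_fixed_triple`. -/
theorem exists_centralized_triple {G : Type*} [Group G] [Finite G] {K : Subgroup G}
    (hK : Odd (Nat.card K)) {a b : G} (ha2 : a * a = 1) (hb2 : b * b = 1) (hab : a * b = b * a)
    (haK : a ∈ Subgroup.normalizer (K : Set G)) (hbK : b ∈ Subgroup.normalizer (K : Set G))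
    {u : G} (hu : u ∈ K) :
    ∃ x ∈ K, ∃ y ∈ K, ∃ z ∈ K, u = x * y * z ∧ a * x = x * a ∧ b * y = y * b ∧
      a * b * z = z * (a * b) := by
  let f : ∀ t : G, t ∈ Subgroup.normalizer (K : Set G) → K →* K := fun t ht =>
    { toFun := fun x => ⟨t * x * t⁻¹, (Subgroup.mem_normalizer_iff.1 ht x).1 x.2⟩
      map_one' := Subtype.ext (by simp)
      map_mul' := fun x y => Subtype.ext (by simp [mul_assoc]) }
  have hinv : ∀ t : G, t * t = 1 → ∀ x : G, t * (t * x * t⁻¹) * t⁻¹ = x := fun t ht x => by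
    calc t * (t * x * t⁻¹) * t⁻¹ = (t * t) * x * (t * t)⁻¹ := by group
      _ = x := by rw [ht]; group
  obtain ⟨x, y, z, h, hx, hy, hz⟩ := exists_fixed_triple hK (f a haK) (f b hbK)
    (fun x => Subtype.ext (hinv a ha2 x)) (fun x => Subtype.ext (hinv b hb2 x))
    (fun x => Subtype.ext (by
      show a * (b * x * b⁻¹) * a⁻¹ = b * (a * x * a⁻¹) * b⁻¹
      calc a * (b * x * b⁻¹) * a⁻¹ = (a * b) * x * (a * b)⁻¹ := by group
        _ = b * (a * x * a⁻¹) * b⁻¹ := by rw [hab]; group)) ⟨u, hu⟩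
  refine ⟨x, x.2, y, y.2, z, z.2, congrArg Subtype.val h, ?_, ?_, ?_⟩
  · exact mul_inv_eq_iff_eq_mul.1 (congrArg Subtype.val hx)
  · exact mul_inv_eq_iff_eq_mul.1 (congrArg Subtype.val hy)
  · have h' : a * (b * z * b⁻¹) * a⁻¹ = z := congrArg Subtype.val hz
    refine mul_inv_eq_iff_eq_mul.1 ?_
    rw [mul_inv_rev]
    calc a * b * z * (b⁻¹ * a⁻¹) = a * (b * z * b⁻¹) * a⁻¹ := by group
      _ = z := h'

end CfsgLib.LocalEven.ExtClosed
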