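import Cfsg.Agent.Lib.LocalEven.ExtClosed.Basic
import Cfsg.Agent.Lib.LocalEven.ExtClosed.OddFour

/-!
# Extremely closed abelian 2-subgroups: the action read off two conjugates is trivial
-/

set_option autoImplicit false

namespace CfsgLib.LocalEven.ExtClosed

open Cfsg Subgroup

variable {G : Type*} [Group G] [Finite G] {H : Subgroup G}

omit [Finite G] in
theorem ordConj (x y : G) : orderOf (x * y * x⁻¹) = orderOf y :=
  MulEquiv.orderOf_eq (MulAut.conj x) y

/-- `g` carries `h` to an element congruent to `h`. -/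
def FixC (g h : G) : Prop := Odd (orderOf (g * h * g⁻¹ * h⁻¹))

omit [Finite G] in
theorem FixC.inv {g h : G} (hg : FixC g h) : FixC g⁻¹ h := by
  unfold FixC at *
  have e : g⁻¹ * h * g⁻¹⁻¹ * h⁻¹ = g⁻¹ * (g * h * g⁻¹ * h⁻¹)⁻¹ * g⁻¹⁻¹ := by group
  rw [e, ordConj, orderOf_inv]
  exact hg

omit [Finite G] in
theorem FixC.left_mul {x g h : G} (hx : x * h = h * x) (hg : FixC g h) : FixC (x * g) h := by
  unfold FixC at *
  have hx' : x⁻¹ * h⁻¹ = h⁻¹ * x⁻¹ := by rw [← mul_inv_rev, ← mul_inv_rev, hx]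
  have e : x * g * h * (x * g)⁻¹ * h⁻¹ = x * (g * h * g⁻¹ * h⁻¹) * x⁻¹ := by
    calc x * g * h * (x * g)⁻¹ * h⁻¹ = x * g * h * g⁻¹ * (x⁻¹ * h⁻¹) := by group
      _ = _ := by rw [hx']; group
  rw [e, ordConj]
  exact hg

omit [Finite G] in
theorem FixC.right_mul {g n h : G} (hn : n * h = h * n) (hg : FixC g h) : FixC (g * n) h := by
  unfold FixC at *
  have e : g * n * h * (g * n)⁻¹ = g * h * g⁻¹ := by
    calc g * n * h * (g * n)⁻¹ = g * (n * h) * n⁻¹ * g⁻¹ := by group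
      _ = _ := by rw [hn]; group
  rw [e]
  exact hg

omit [Finite G] in
theorem eq_one_of_odd_pgroup (hH : IsPGroup 2 H) {x : G} (hx : x ∈ H) (hodd : Odd (orderOf x)) :
    x = 1 := by
  obtain ⟨n, hn⟩ := hH ⟨x, hx⟩
  exact orderOf_eq_one_iff.1 (Nat.eq_one_of_dvd_coprimes
    ((Nat.coprime_two_right.2 hodd).pow_right n) dvd_rfl
    (orderOf_dvd_of_pow_eq_one (congrArg Subtype.val hn)))

theorem fix_of_mem {K : Subgroup G} (hodd : Odd (Nat.card K)) (hN : H ≤ normalizer (K : Set G))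
    {k : G} (hk : k ∈ K) {h : G} (hh : h ∈ H) : FixC k h := by
  refine hodd.of_dvd_nat (Subgroup.orderOf_dvd_natCard K ?_)
  have e : k * h * k⁻¹ * h⁻¹ = k * (h * k⁻¹ * h⁻¹) := by group
  rw [e]
  exact mul_mem hk ((mem_normalizer_iff.1 (hN hh) _).1 (inv_mem hk))

/-- Writing `g = u n`: the action of `n` decides the congruences. -/
theorem exists_decomp (hH : IsPGroup 2 H) (hab : IsMulCommutative H) (hcl : IsExtremelyClosed H)
    (g : G) : ∃ (K : Subgroup G) (u n : G), Odd (Nat.card K) ∧ H ≤ normalizer (K : Set G) ∧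
      H.map (MulAut.conj g).toMonoidHom ≤ K ⊔ H ∧
      u ∈ K ∧ n ∈ normalizer (H : Set G) ∧ g = u * n ∧
      ∀ h ∈ H, (FixC g h ↔ n * h = h * n) := by
  obtain ⟨K, hodd, hN, hmax, hle, u, hu, huL, hn⟩ := exists_kernel hH hab hcl g
  refine ⟨K, u, u⁻¹ * g, hodd, hN, hle, hu, hn, by group, fun h hh => ?_⟩
  set n := u⁻¹ * g with hn'
  have hg : g = u * n := by rw [hn']; group
  constructor
  · intro hfix
    have h' : n * h * n⁻¹ ∈ H := (mem_normalizer_iff.1 hn h).1 hh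
    have hc : g * h * g⁻¹ * h⁻¹ ∈ K := by
      refine hmax _ (mul_mem (mem_sup_right ⟨h, hh, rfl⟩) (mem_sup_left (inv_mem hh))) hfix
    have hc' : n * h * n⁻¹ * h⁻¹ ∈ K := by
      have e : n * h * n⁻¹ * h⁻¹ = u⁻¹ * (g * h * g⁻¹ * h⁻¹) * (h * u * h⁻¹) := by
        rw [hg]; group
      rw [e]
      exact mul_mem (mul_mem (inv_mem hu) hc) ((mem_normalizer_iff.1 (hN hh) _).1 hu)
    have := eq_one_of_odd_pgroup hH (mul_mem h' (inv_mem hh))
      (hodd.of_dvd_nat (Subgroup.orderOf_dvd_natCard K hc'))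
    rw [mul_inv_eq_one, mul_inv_eq_iff_eq_mul] at this
    exact this
  · intro hc
    rw [hg]
    exact (fix_of_mem hodd hN hu hh).right_mul hc

/-- A four subgroup of `H`, listed as `a`, `b`, `c = a b`. -/
structure Tri (H : Subgroup G) (a b c : G) : Prop where
  ha : a ∈ H
  hb : b ∈ H
  ha2 : a * a = 1
  hb2 : b * b = 1
  comm : a * b = b * a
  hc : c = a * b

omit [Finite G] in
theorem Tri.rot {a b c : G} (h : Tri H a b c) : Tri H b c a := by
  have hc2 : c * c = 1 := by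
    rw [h.hc]
    calc a * b * (a * b) = a * (b * a) * b := by group
      _ = a * a * (b * b) := by rw [← h.comm]; group
      _ = 1 := by rw [h.ha2, h.hb2, one_mul]
  have h1 : b * c = a := by rw [h.hc, h.comm, ← mul_assoc, h.hb2, one_mul]
  have h2 : c * b = a := by rw [h.hc, mul_assoc, h.hb2, mul_one]
  exact ⟨h.hb, h.hc ▸ mul_mem h.ha h.hb, h.hb2, hc2, h1.trans h2.symm, h1.symm⟩

theorem Tri.fix_third (hH : IsPGroup 2 H) (hab : IsMulCommutative H) (hcl : IsExtremelyClosed H)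
    {a b c g : G} (h : Tri H a b c) (ha : FixC g a) (hb : FixC g b) : FixC g c := by
  obtain ⟨K, u, n, -, -, -, -, -, -, hiff⟩ := exists_decomp hH hab hcl g
  have h1 := (hiff a h.ha).1 ha
  have h2 := (hiff b h.hb).1 hb
  rw [hiff c (h.rot.hb)]
  rw [h.hc, ← mul_assoc, h1, mul_assoc, h2, mul_assoc]

/-- In the centralizer of `t` the congruences are multiplicative. -/
def MulFix (H : Subgroup G) (t : G) : Prop :=
  ∀ x y : G, x * t = t * x → y * t = t * y → ∀ h ∈ H, FixC x h → FixC y h → FixC (x * y) h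

theorem mulFix_of_structure (hH : IsPGroup 2 H) (hab : IsMulCommutative H) {t : G} (ht : t ∈ H)
    (O : Subgroup G) (hOodd : Odd (Nat.card O))
    (hON : ∀ x, x * t = t * x → x ∈ normalizer (O : Set G))
    (hsplit : ∀ x, x * t = t * x → ∃ o ∈ O, ∃ m ∈ normalizer (H : Set G), x = o * m) :
    MulFix H t := by
  intro x y hx hy h hh fx fy
  have hcomm : h * t = t * h := congrArg Subtype.val (hab.is_comm.comm ⟨h, hh⟩ ⟨t, ht⟩)
  have hhO : h ∈ normalizer (O : Set G) := hON h hcomm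
  have hco : ∀ o ∈ O, o * h * o⁻¹ * h⁻¹ ∈ O := fun o ho => by
    have e : o * h * o⁻¹ * h⁻¹ = o * (h * o⁻¹ * h⁻¹) := by group
    rw [e]
    exact mul_mem ho ((mem_normalizer_iff.1 hhO _).1 (inv_mem ho))
  have hself : ∀ o ∈ O, o ∈ normalizer (O : Set G) := fun o ho => le_normalizer ho
  have key : ∀ z, z * t = t * z → FixC z h → ∃ o ∈ O, ∃ m, m * h = h * m ∧
      m ∈ normalizer (O : Set G) ∧ z = o * m := by
    intro z hz fz
    obtain ⟨o, ho, m, hm, rfl⟩ := hsplit z hz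
    have hmO : m ∈ normalizer (O : Set G) := by
      have := mul_mem (inv_mem (hself o ho)) (hON _ hz)
      simpa using this
    refine ⟨o, ho, m, ?_, hmO, rfl⟩
    set d := m * h * m⁻¹ * h⁻¹ with hd
    have hdH : d ∈ H := mul_mem ((mem_normalizer_iff.1 hm h).1 hh) (inv_mem hh)
    have hdO : d ∈ normalizer (O : Set G) :=
      mul_mem (mul_mem (mul_mem hmO hhO) (inv_mem hmO)) (inv_mem hhO)
    set c := o * m * h * (o * m)⁻¹ * h⁻¹ with hc
    have hcd : c = o * d * (h * o⁻¹ * h⁻¹) := by rw [hc, hd]; group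
    have hoh : h * o⁻¹ * h⁻¹ ∈ O := (mem_normalizer_iff.1 hhO _).1 (inv_mem ho)
    have hcO : c ∈ normalizer (O : Set G) :=
      hcd ▸ mul_mem (mul_mem (hself o ho) hdO) (hself _ hoh)
    let π := QuotientGroup.mk' (O.subgroupOf (normalizer (O : Set G)))
    have hπ : π ⟨c, hcO⟩ = π ⟨d, hdO⟩ := by
      have e : (⟨c, hcO⟩ : normalizer (O : Set G)) = ⟨o, hself o ho⟩ * ⟨d, hdO⟩ * ⟨_, hself _ hoh⟩ :=
        Subtype.ext hcd
      have h1 : π ⟨o, hself o ho⟩ = 1 := (QuotientGroup.eq_one_iff _).2 (mem_subgroupOf.2 ho)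
      have h2 : π ⟨_, hself _ hoh⟩ = 1 := (QuotientGroup.eq_one_iff _).2 (mem_subgroupOf.2 hoh)
      rw [e, map_mul, map_mul, h1, h2, one_mul, mul_one]
    obtain ⟨k, hk⟩ := hH ⟨d, hdH⟩
    have h3 : orderOf (π ⟨c, hcO⟩) ∣ orderOf c := by
      rw [← orderOf_mk c hcO]
      exact orderOf_map_dvd π _
    have h4 : orderOf (π ⟨c, hcO⟩) ∣ 2 ^ k := by
      rw [hπ]
      refine orderOf_dvd_of_pow_eq_one ?_
      rw [← map_pow, show (⟨d, hdO⟩ : normalizer (O : Set G)) ^ (2 ^ k) = 1 from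
        Subtype.ext (by simpa using congrArg Subtype.val hk), map_one]
    have h5 := orderOf_eq_one_iff.1 (Nat.eq_one_of_dvd_coprimes
      ((Nat.coprime_two_right.2 (fz : Odd (orderOf c))).pow_right k) h3 h4)
    rw [hπ] at h5
    have h6 : d ∈ O := mem_subgroupOf.1 ((QuotientGroup.eq_one_iff _).1 h5)
    have h7 := eq_one_of_odd_pgroup hH hdH (hOodd.of_dvd_nat (Subgroup.orderOf_dvd_natCard O h6))
    rw [hd, mul_inv_eq_one, mul_inv_eq_iff_eq_mul] at h7
    exact h7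
  obtain ⟨o₁, ho₁, m₁, hm₁, hm₁O, rfl⟩ := key x hx fx
  obtain ⟨o₂, ho₂, m₂, hm₂, -, rfl⟩ := key y hy fy
  have e : o₁ * m₁ * (o₂ * m₂) = o₁ * (m₁ * o₂ * m₁⁻¹) * (m₁ * m₂) := by group
  rw [e]
  refine FixC.right_mul ?_ (hOodd.of_dvd_nat (Subgroup.orderOf_dvd_natCard O (hco _ ?_)))
  · rw [mul_assoc, hm₂, ← mul_assoc, hm₁, mul_assoc]
  · exact mul_mem ho₁ ((mem_normalizer_iff.1 hm₁O _).1 ho₂)

theorem pair_fix (hH : IsPGroup 2 H) (hab : IsMulCommutative H) (hcl : IsExtremelyClosed H)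
    {a b c y z : G} (h : Tri H a b c) (hy : y * b = b * y) (hz : z * c = c * z)
    (yb : FixC y c) (zb : FixC z b) :
    FixC (y * z) a ∧ FixC (y * z) b ∧ FixC (y * z) c := by
  have h1 : FixC (y * z) b := zb.left_mul hy
  have h2 : FixC (y * z) c := by
    have hz' : z⁻¹ * c = c * z⁻¹ := by
      rw [inv_mul_eq_iff_eq_mul, ← mul_assoc, hz, mul_inv_cancel_right]
    have := (yb.inv.left_mul hz').inv
    simpa [mul_inv_rev] using this
  exact ⟨h.rot.fix_third hH hab hcl h1 h2, h1, h2⟩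

/-- Left multiplication by an element centralizing `a` preserves "acts trivially on `a`, `b`". -/
theorem step (hH : IsPGroup 2 H) (hab : IsMulCommutative H) (hcl : IsExtremelyClosed H)
    {a b c x g : G} (h : Tri H a b c) (hmul : MulFix H a) (hxa : x * a = a * x) (xb : FixC x b)
    (ga : FixC g a) (gb : FixC g b) : FixC (x * g) a ∧ FixC (x * g) b := by
  refine ⟨ga.left_mul hxa, ?_⟩
  obtain ⟨K, u, n, hodd, hN, -, hu, -, rfl, hiff⟩ := exists_decomp hH hab hcl g
  have hna := (hiff a h.ha).1 ga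
  have hnb := (hiff b h.hb).1 gb
  obtain ⟨p, hp, q, hq, r, hr, hu', hpa, hqb, hrc⟩ :=
    exists_centralized_triple hodd h.ha2 h.hb2 h.comm (hN h.ha) (hN h.hb) hu
  rw [← h.hc] at hrc
  have fp := fun t ht => fix_of_mem hodd hN hp (h := t) ht
  set X := x * p with hX
  have hXa : X * a = a * X := by
    rw [hX, mul_assoc, ← hpa, ← mul_assoc, hxa, mul_assoc]
  have fX : FixC X b := hmul x p hxa hpa.symm b h.hb xb (fp b h.hb)
  have fXc : FixC X c := by
    refine h.fix_third hH hab hcl ?_ fX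
    show Odd (orderOf (X * a * X⁻¹ * a⁻¹))
    rw [hXa, mul_inv_cancel_right, mul_inv_cancel, orderOf_one]
    exact odd_one
  obtain ⟨hqra, -, -⟩ := pair_fix hH hab hcl h hqb.symm hrc.symm
    (fix_of_mem hodd hN hq h.rot.hb) (fix_of_mem hodd hN hr h.hb)
  have f1 : FixC (X * (q * r)) a := hqra.left_mul hXa
  have hcc := h.rot
  obtain ⟨-, -, hXqc⟩ : FixC (X * q) c ∧ FixC (X * q) a ∧ FixC (X * q) c := by
    have h1 : FixC (X * q) a := (fix_of_mem hodd hN hq h.ha).left_mul hXa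
    have h2 : FixC (X * q) b := by
      have hq' : q⁻¹ * b = b * q⁻¹ := by
        rw [inv_mul_eq_iff_eq_mul, ← mul_assoc, hqb.symm, mul_inv_cancel_right]
      have := (fX.inv.left_mul hq').inv
      simpa [mul_inv_rev] using this
    exact ⟨h.fix_third hH hab hcl h1 h2, h1, h.fix_third hH hab hcl h1 h2⟩
  have f3 : FixC (X * (q * r)) c := by
    have hr' : r⁻¹ * c = c * r⁻¹ := by
      rw [inv_mul_eq_iff_eq_mul, ← mul_assoc, hrc.symm, mul_inv_cancel_right]
    have := (hXqc.inv.left_mul hr').inv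
    simpa [mul_inv_rev, mul_assoc] using this
  have f2 : FixC (X * (q * r)) b := h.rot.rot.fix_third hH hab hcl f3 f1
  have e : x * (u * n) = X * (q * r) * n := by rw [hX, hu']; group
  rw [e]
  exact f2.right_mul hnb

/-- Every element of the subgroup generated by the conjugates of `H` fixes `a` and `b`. -/
theorem fix_closure (hH : IsPGroup 2 H) (hab : IsMulCommutative H) (hcl : IsExtremelyClosed H)
    {a b c : G} (h : Tri H a b c) (hma : MulFix H a) (hmb : MulFix H b) (hmc : MulFix H c)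
    {g : G} (hg : g ∈ Subgroup.normalClosure (H : Set G)) : FixC g a := by
  let S : Set G := {k | k ∈ H ∨ ∃ K : Subgroup G, Odd (Nat.card K) ∧
    H ≤ normalizer (K : Set G) ∧ k ∈ K}
  have hgS : g ∈ Subgroup.closure S := by
    refine closure_le (K := Subgroup.closure S) |>.2 ?_ hg
    intro x hx
    obtain ⟨h₀, hh₀, hx'⟩ := Group.mem_conjugatesOfSet_iff.1 hx
    obtain ⟨w, hw⟩ := isConj_iff.1 hx'
    obtain ⟨K, u, n, hodd, hN, hle, -⟩ := exists_decomp hH hab hcl w
    have : x ∈ K ⊔ H := hle ⟨h₀, hh₀, hw⟩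
    have hle' : K ⊔ H ≤ Subgroup.closure S := sup_le ?_ ?_
    · exact hle' this
    · exact fun k hk => subset_closure (Or.inr ⟨K, hodd, hN, hk⟩)
    · exact fun k hk => subset_closure (Or.inl hk)
  suffices hboth : FixC g a ∧ FixC g b from hboth.1
  have hgen : ∀ x ∈ S, ∀ y, FixC y a ∧ FixC y b → FixC (x * y) a ∧ FixC (x * y) b := by
    rintro x (hx | ⟨K, hodd, hN, hx⟩) y ⟨ya, yb⟩
    · exact ⟨ya.left_mul (congrArg Subtype.val (hab.is_comm.comm ⟨x, hx⟩ ⟨a, h.ha⟩)),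
        yb.left_mul (congrArg Subtype.val (hab.is_comm.comm ⟨x, hx⟩ ⟨b, h.hb⟩))⟩
    · obtain ⟨p, hp, q, hq, r, hr, rfl, hpa, hqb, hrc⟩ :=
        exists_centralized_triple hodd h.ha2 h.hb2 h.comm (hN h.ha) (hN h.hb) hx
      rw [← h.hc] at hrc
      obtain ⟨hc', ha'⟩ := step hH hab hcl h.rot.rot hmc hrc.symm (fix_of_mem hodd hN hr h.ha)
        (h.fix_third hH hab hcl ya yb) ya
      have hb' := h.rot.rot.fix_third hH hab hcl hc' ha'
      obtain ⟨hb'', hc''⟩ := step hH hab hcl h.rot hmb hqb.symm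
        (fix_of_mem hodd hN hq h.rot.hb) hb' hc'
      have ha'' := h.rot.fix_third hH hab hcl hb'' hc''
      have := step hH hab hcl h hma hpa.symm (fix_of_mem hodd hN hp h.hb) ha'' hb''
      simpa [mul_assoc] using this
  clear hg
  induction hgS using Subgroup.closure_induction_left with
  | one => constructor <;> simp [FixC]
  | mul_left x hx y _ ih => exact hgen x hx y ih
  | inv_mul_cancel x hx y _ ih =>
    refine hgen x⁻¹ ?_ y ih
    rcases hx with hx | ⟨K, hodd, hN, hx⟩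
    exacts [Or.inl (inv_mem hx), Or.inr ⟨K, hodd, hN, inv_mem hx⟩]

/-- With a single involution there is nothing to act on. -/
theorem fix_of_unique (hH : IsPGroup 2 H) (hab : IsMulCommutative H) (hcl : IsExtremelyClosed H)
    {a : G} (ha : a ∈ H) (ha2 : orderOf a = 2) (huniq : ∀ b ∈ H, orderOf b = 2 → b = a) (g : G) :
    FixC g a := by
  obtain ⟨K, u, n, -, -, -, -, hn, -, hiff⟩ := exists_decomp hH hab hcl g
  rw [hiff a ha]
  have := huniq (n * a * n⁻¹) ((mem_normalizer_iff.1 hn a).1 ha) (by rw [ordConj, ha2])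
  exact mul_inv_eq_iff_eq_mul.1 this

end CfsgLib.LocalEven.ExtClosed
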