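import Cfsg.Agent.Lib.LocalEven.ExtClosed.Basic

/-!
# Extremely closed subgroups in quotients and subgroups
-/

set_option autoImplicit false

namespace CfsgLib.LocalEven.ExtClosed

open Cfsg Subgroup

variable {G : Type*} [Group G] [Finite G] {H : Subgroup G}

theorem quotient (hH : IsPGroup 2 H) (hcl : IsExtremelyClosed H) (Q : Subgroup G) [Q.Normal]
    (hsyl : ¬ 2 ∣ H.relIndex (H ⊔ Q)) :
    IsExtremelyClosed (H.map (QuotientGroup.mk' Q)) ∧
      (normalizer ((H.map (QuotientGroup.mk' Q) : Subgroup (G ⧸ Q)) : Set (G ⧸ Q))).comap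
        (QuotientGroup.mk' Q) ≤ normalizer (H : Set G) ⊔ Q := by
  set π := QuotientGroup.mk' Q with hπ
  have hsurj : Function.Surjective π := QuotientGroup.mk'_surjective Q
  have hcm : (H.map π).comap π = H ⊔ Q := by
    rw [comap_map_eq, hπ, QuotientGroup.ker_mk']
  have hpre : ∀ g, π g ∈ normalizer ((H.map π : Subgroup (G ⧸ Q)) : Set (G ⧸ Q)) →
      H.map (MulAut.conj g).toMonoidHom ≤ H ⊔ Q := by
    rintro g hg _ ⟨h, hh, rfl⟩
    rw [← hcm, mem_comap]
    show π (g * h * g⁻¹) ∈ _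
    rw [map_mul, map_mul, map_inv]
    exact (mem_normalizer_iff.1 hg _).1 (mem_map_of_mem _ hh)
  refine ⟨fun x => ?_, ?_⟩
  · obtain ⟨g, rfl⟩ := hsurj x
    set L := H ⊔ H.map (MulAut.conj g).toMonoidHom with hL
    have hconj : (H.map π).map (MulAut.conj (π g)).toMonoidHom =
        (H.map (MulAut.conj g).toMonoidHom).map π := by
      rw [map_map, map_map]
      congr 1
    rw [hconj, ← Subgroup.map_sup]
    refine le_antisymm ?_ (le_inf (map_mono le_sup_left) le_normalizer)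
    rintro _ ⟨⟨l, hl, rfl⟩, hn⟩
    have hJ : ¬ 2 ∣ H.relIndex ((H ⊔ Q) ⊓ L) := fun hd => hsyl (hd.trans
      ⟨((H ⊔ Q) ⊓ L).relIndex (H ⊔ Q),
        (relIndex_mul_relIndex H _ _ (le_inf le_sup_left le_sup_left) inf_le_left).symm⟩)
    have hlL : H.map (MulAut.conj l).toMonoidHom ≤ L := by
      rintro _ ⟨h, hh, rfl⟩
      exact L.mul_mem (L.mul_mem hl (mem_sup_left hh)) (L.inv_mem hl)
    obtain ⟨j, hj, hn'⟩ := exists_conj_normalizer hH (le_inf le_sup_left le_sup_left) hJ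
      (le_inf (hpre l hn) hlL)
    have hmem : j⁻¹ * l ∈ H := (hcl g).le ⟨L.mul_mem (L.inv_mem hj.2) hl, hn'⟩
    have hl' : l ∈ H ⊔ Q := by
      have := mul_mem hj.1 (mem_sup_left (T := Q) hmem)
      simpa using this
    rw [← hcm, mem_comap] at hl'
    exact hl'
  · intro g hg
    obtain ⟨j, hj, hn⟩ := exists_conj_normalizer hH le_sup_left hsyl (hpre g hg)
    have hj' : H ⊔ Q ≤ normalizer (H : Set G) ⊔ Q := sup_le_sup_right le_normalizer Q
    have := mul_mem (hj' hj) (mem_sup_left (T := Q) hn)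
    simpa using this

theorem subgroupOf (hcl : IsExtremelyClosed H) (C : Subgroup G) (hHC : H ≤ C) :
    IsExtremelyClosed (H.subgroupOf C) ∧
      ∀ x : C, x ∈ normalizer ((H.subgroupOf C : Subgroup C) : Set C) →
        (x : G) ∈ normalizer (H : Set G) := by
  have hnorm : ∀ x : C, x ∈ normalizer ((H.subgroupOf C : Subgroup C) : Set C) →
      (x : G) ∈ normalizer (H : Set G) := by
    intro x hx
    rw [mem_normalizer_iff_map_conj_eq]
    refine eq_of_le_of_card_ge ?_ (le_of_eq (card_map_of_injective (MulEquiv.injective _)).symm)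
    rintro _ ⟨h, hh, rfl⟩
    exact (mem_normalizer_iff.1 hx ⟨h, hHC hh⟩).1 hh
  refine ⟨fun g => le_antisymm ?_ (le_inf le_sup_left le_normalizer), hnorm⟩
  rintro x ⟨hx, hn⟩
  rw [mem_subgroupOf]
  refine (hcl (g : G)).le ⟨?_, hnorm x hn⟩
  have hle : H.subgroupOf C ⊔ (H.subgroupOf C).map (MulAut.conj g).toMonoidHom ≤
      (H ⊔ H.map (MulAut.conj (g : G)).toMonoidHom).comap C.subtype := by
    refine sup_le (fun y hy => mem_sup_left (mem_subgroupOf.1 hy)) ?_
    rintro _ ⟨y, hy, rfl⟩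
    exact mem_sup_right ⟨(y : G), mem_subgroupOf.1 hy, rfl⟩
  exact hle hx

end CfsgLib.LocalEven.ExtClosed
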