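import Cfsg.Prelude.Def_CaseTheorems
import Cfsg.Agent.Lib.LocalEven.ExtClosed.Fix
import Cfsg.Agent.Lib.LocalEven.ExtClosed.Quotient
import Cfsg.Agent.Lib.Invol.ZStarFinal
import Cfsg.Agent.Lib.Cores.Basic

/-!
# An extremely closed abelian 2-subgroup is normal modulo the odd core
-/

set_option autoImplicit false

namespace CfsgLib.LocalEven.ExtClosed

open Cfsg Subgroup

universe u

variable {G : Type u} [Group G] [Finite G] {H : Subgroup G}

theorem oddCore_normalClosure (hO : oddCore G = ⊥) (M : Subgroup G) [M.Normal] :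
    oddCore ↥M = ⊥ := by
  haveI := CfsgLib.Cores.pPrimeCore_characteristic (G := ↥M) 2
  haveI : ((oddCore ↥M).map M.subtype).Normal := inferInstance
  have h : (oddCore ↥M).map M.subtype ≤ oddCore G := CfsgLib.Cores.le_oddCore_of_odd (by
    rw [card_map_of_injective M.subtype_injective]
    exact CfsgLib.Cores.odd_card_oddCore)
  rw [hO, le_bot_iff] at h
  exact (map_eq_bot_iff_of_injective _ M.subtype_injective).1 h

theorem le_centralizer_of_fix (hO : oddCore G = ⊥) {M : Subgroup G} [M.Normal] {a : G}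
    (ha2 : orderOf a = 2) (haM : a ∈ M) (hfix : ∀ g ∈ M, FixC g a) :
    ∀ g ∈ M, g * a = a * g := by
  have hiso : IsIsolatedInvolution (⟨a, haM⟩ : M) := by
    refine ⟨by rw [orderOf_mk, ha2], fun g hg => Subtype.ext ?_⟩
    have hc : Commute a ((g : G) * a * (g : G)⁻¹) := congrArg Subtype.val hg.eq
    have ha : a * a = 1 := by rw [← pow_two, ← ha2, pow_orderOf_eq_one]
    set x := (g : G) * a * (g : G)⁻¹ with hx
    have hxx : x * x = 1 := by
      rw [hx, show (g : G) * a * (g : G)⁻¹ * ((g : G) * a * (g : G)⁻¹) =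
        (g : G) * (a * a) * (g : G)⁻¹ by group, ha]
      group
    have hodd : Odd (orderOf (x * a⁻¹)) := hfix g g.2
    have h2 : orderOf (x * a⁻¹) ∣ 2 := by
      refine orderOf_dvd_of_pow_eq_one ?_
      rw [inv_eq_of_mul_eq_one_left ha, (hc.symm).mul_pow, pow_two, pow_two, hxx, ha, one_mul]
    have h1 := orderOf_eq_one_iff.1 (Nat.eq_one_of_dvd_coprimes
      (Nat.coprime_two_right.2 hodd) dvd_rfl h2)
    exact mul_inv_eq_one.1 h1
  have hz := CfsgLib.Invol.zstar_center hiso (oddCore_normalClosure hO M)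
  exact fun g hg => congrArg Subtype.val (Subgroup.mem_center_iff.1 hz ⟨g, hg⟩)

theorem main_aux : ∀ (n : ℕ) (G : Type u) [Group G] [Finite G] (H : Subgroup G), Nat.card G ≤ n →
    IsPGroup 2 H → IsMulCommutative H → IsExtremelyClosed H →
    normalizer (H : Set G) ⊔ oddCore G = ⊤ := by
  intro n
  induction n with
  | zero => intro G _ _ H hn _ _ _; exact absurd hn (Nat.not_le.2 Nat.card_pos)
  | succ n ih =>
  intro G _ _ H hn hH hab hcl
  haveI : Fact (Nat.Prime 2) := ⟨Nat.prime_two⟩
  -- the quotient step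
  have hquot : ∀ (Q : Subgroup G) [Q.Normal], Q ≠ ⊥ → ¬ 2 ∣ H.relIndex (H ⊔ Q) →
      oddCore (G ⧸ Q) = ⊥ → normalizer (H : Set G) ⊔ Q = ⊤ := by
    intro Q hQn hQ hsyl hO'
    obtain ⟨hcl', hpre⟩ := quotient hH hcl Q hsyl
    have hlt : Nat.card (G ⧸ Q) ≤ n := by
      have h1 := Q.card_eq_card_quotient_mul_card_subgroup
      have h2 : 2 ≤ Nat.card Q := Q.one_lt_card_iff_ne_bot.2 hQ
      have h3 : 0 < Nat.card (G ⧸ Q) := Nat.card_pos
      nlinarith
    have hab' : IsMulCommutative (H.map (QuotientGroup.mk' Q)) := by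
      constructor; constructor
      rintro ⟨_, x, hx, rfl⟩ ⟨_, y, hy, rfl⟩
      apply Subtype.ext
      show QuotientGroup.mk' Q x * QuotientGroup.mk' Q y =
        QuotientGroup.mk' Q y * QuotientGroup.mk' Q x
      rw [← map_mul, ← map_mul]
      exact congrArg _ (congrArg (fun t : H => (t : G)) (hab.is_comm.comm ⟨x, hx⟩ ⟨y, hy⟩))
    have := ih _ _ hlt (hH.map _) hab' hcl'
    rw [hO', sup_bot_eq] at this
    rw [this, comap_top] at hpre
    exact top_le_iff.1 hpre
  by_cases hO : oddCore G = ⊥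
  swap
  · haveI : (oddCore G).Normal := by
      have := CfsgLib.Cores.pPrimeCore_characteristic (G := G) 2
      infer_instance
    refine hquot _ hO ?_ (CfsgLib.Cores.pPrimeCore_quotient_self 2)
    rw [← even_iff_two_dvd, Nat.not_even_iff_odd]
    refine (CfsgLib.Cores.odd_card_oddCore (G := G)).of_dvd_nat ?_
    have h := CfsgLib.Cores.card_sup_dvd_mul (oddCore G) H
    rw [sup_comm, ← relIndex_bot_left (H ⊔ oddCore G),
      ← relIndex_mul_relIndex ⊥ H _ bot_le le_sup_left, relIndex_bot_left,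
      mul_comm (Nat.card (oddCore G))] at h
    exact Nat.dvd_of_mul_dvd_mul_left Nat.card_pos h
  rw [hO, sup_bot_eq]
  by_cases hbot : H = ⊥
  · subst hbot
    exact normalizer_eq_top_iff.2 inferInstance
  -- an involution of `H` central in `G`
  by_cases hcen : ∃ a ∈ H, orderOf a = 2 ∧ a ∈ center G
  · obtain ⟨a, haH, ha2, hac⟩ := hcen
    haveI hn' : (zpowers a).Normal := ⟨fun x hx g => by
      have hxc := (zpowers_le.2 hac) hx
      rw [Subgroup.mem_center_iff.1 hxc g, mul_inv_cancel_right]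
      exact hx⟩
    have hQc : zpowers a ≤ center G := zpowers_le.2 hac
    have hQH : zpowers a ≤ H := zpowers_le.2 haH
    have hQ2 : Nat.card (zpowers a) = 2 := by rw [Nat.card_zpowers, ha2]
    have := hquot (zpowers a) (fun h => by
        rw [h, card_bot] at hQ2; omega)
      (by rw [sup_eq_left.2 hQH, relIndex_self]; norm_num)
      (CfsgLib.Invol.oddCore_quotient_two hO _ hQ2 hQc)
    rwa [sup_eq_left.2 (hQH.trans le_normalizer)] at this
  -- otherwise centralizers of involutions of `H` are smaller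
  have hcomm : ∀ x ∈ H, ∀ y ∈ H, x * y = y * x := fun x hx y hy =>
    congrArg (fun t : H => (t : G)) (hab.is_comm.comm ⟨x, hx⟩ ⟨y, hy⟩)
  have hloc : ∀ t ∈ H, orderOf t = 2 → ∃ O : Subgroup G, Odd (Nat.card O) ∧
      O ≤ centralizer {t} ∧ (∀ x, x * t = t * x → x ∈ normalizer (O : Set G)) ∧
      ∀ x, x * t = t * x → ∃ o ∈ O, ∃ m ∈ normalizer (H : Set G), x = o * m := by
    intro t ht ht2
    set C := centralizer ({t} : Set G) with hC
    have hHC : H ≤ C := fun h hh => mem_centralizer_singleton_iff.2 (hcomm h hh t ht)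
    have hlt : Nat.card C ≤ n := by
      have hne : C ≠ ⊤ := fun h => hcen ⟨t, ht, ht2, by
        rw [Subgroup.mem_center_iff]
        intro g
        exact mem_centralizer_singleton_iff.1 (h ▸ mem_top g : g ∈ C)⟩
      have h1 := C.card_mul_index
      have h2 : 1 < C.index := one_lt_index_of_ne_top hne
      have h3 : 0 < Nat.card C := Nat.card_pos
      nlinarith
    obtain ⟨hcl', hnorm⟩ := subgroupOf hcl C hHC
    have hab' : IsMulCommutative (H.subgroupOf C) := by
      constructor; constructor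
      exact fun x y => Subtype.ext (Subtype.ext (hcomm _ (mem_subgroupOf.1 x.2) _ (mem_subgroupOf.1 y.2)))
    have hC' := ih C _ hlt (hH.comap_of_injective C.subtype C.subtype_injective) hab' hcl'
    haveI : (oddCore ↥C).Normal := by
      have := CfsgLib.Cores.pPrimeCore_characteristic (G := ↥C) 2
      infer_instance
    refine ⟨(oddCore ↥C).map C.subtype, by
      rw [card_map_of_injective C.subtype_injective]; exact CfsgLib.Cores.odd_card_oddCore,
      map_subtype_le _, fun x hx => ?_, fun x hx => ?_⟩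
    · have hxC : x ∈ C := mem_centralizer_singleton_iff.2 hx
      have := le_normalizer_map (H := oddCore ↥C) C.subtype
      exact this ⟨⟨x, hxC⟩, by rw [normalizer_eq_top_iff.2 inferInstance]; exact mem_top _, rfl⟩
    · have hxC : x ∈ C := mem_centralizer_singleton_iff.2 hx
      have hmem : (⟨x, hxC⟩ : C) ∈
          oddCore ↥C ⊔ normalizer ((H.subgroupOf C : Subgroup C) : Set C) := by
        rw [sup_comm]; exact (hC'.ge (mem_top _) :)
      obtain ⟨o, ho, m, hm, hom⟩ := Subgroup.mem_sup_of_normal_left.1 hmem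
      exact ⟨o, mem_map_of_mem _ ho, m, hnorm m hm, (congrArg Subtype.val hom).symm⟩
  have hmul : ∀ t ∈ H, orderOf t = 2 → MulFix H t := fun t ht ht2 => by
    obtain ⟨O, h1, -, h2, h3⟩ := hloc t ht ht2
    exact mulFix_of_structure hH hab ht O h1 h2 h3
  -- choose an involution fixed by the normal closure of `H`
  set M := Subgroup.normalClosure (H : Set G) with hM
  have hHM : H ≤ M := Subgroup.subset_normalClosure
  obtain ⟨a, haH, ha2, hfix⟩ : ∃ a ∈ H, orderOf a = 2 ∧ ∀ g ∈ M, FixC g a := by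
    obtain ⟨a, ha⟩ := exists_prime_orderOf_dvd_card' (G := H) 2 (by
      obtain ⟨k, hk⟩ := IsPGroup.iff_card.1 hH
      rcases k with - | k
      · rw [pow_zero, card_eq_one] at hk; exact absurd hk hbot
      · exact hk ▸ dvd_pow_self 2 (Nat.succ_ne_zero k))
    have ha2 : orderOf (a : G) = 2 := by rw [orderOf_coe, ha]
    by_cases huniq : ∀ b ∈ H, orderOf b = 2 → b = (a : G)
    · exact ⟨a, a.2, ha2, fun g _ => fix_of_unique hH hab hcl a.2 ha2 huniq g⟩
    push_neg at huniq
    obtain ⟨b, hb, hb2, hba⟩ := huniq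
    have sq : ∀ x : G, orderOf x = 2 → x * x = 1 := fun x hx => by
      rw [← pow_two, ← hx, pow_orderOf_eq_one]
    have htri : Tri H (a : G) b ((a : G) * b) :=
      ⟨a.2, hb, sq _ ha2, sq _ hb2, hcomm _ a.2 _ hb, rfl⟩
    have hc2 : orderOf ((a : G) * b) = 2 := by
      refine orderOf_eq_prime ?_ fun h => hba ?_
      · rw [pow_two, htri.rot.hb2]
      · rw [← mul_left_cancel (a := (a : G)) (h.trans (sq _ ha2).symm)]
    exact ⟨a, a.2, ha2, fun g hg => fix_closure hH hab hcl htri (hmul _ a.2 ha2) (hmul _ hb hb2)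
      (hmul _ (mul_mem a.2 hb) hc2) hg⟩
  have hMa := le_centralizer_of_fix hO ha2 (hHM haH) hfix
  obtain ⟨O, hOodd, hOC, hON, hsplit⟩ := hloc a haH ha2
  -- `O` centralizes `H`
  have hOM : ∀ x ∈ O, x ∈ M → x = 1 := by
    have hMN : M ≤ normalizer (O : Set G) := fun g hg => hON g (hMa g hg)
    have hn' : (O.subgroupOf M).Normal := ⟨fun x hx g => by
      rw [mem_subgroupOf] at hx ⊢
      exact (mem_normalizer_iff.1 (hMN g.2) _).1 hx⟩
    have hle : O.subgroupOf M ≤ oddCore ↥M := by
      haveI := hn'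
      refine CfsgLib.Cores.le_oddCore_of_odd (hOodd.of_dvd_nat ?_)
      rw [← card_map_of_injective M.subtype_injective]
      exact card_dvd_of_le (map_comap_le _ _)
    rw [oddCore_normalClosure hO M, le_bot_iff] at hle
    intro x hx hxM
    have : (⟨x, hxM⟩ : M) ∈ O.subgroupOf M := mem_subgroupOf.2 hx
    rw [hle, mem_bot] at this
    exact congrArg Subtype.val this
  have hCN : ∀ g, g * a = a * g → g ∈ normalizer (H : Set G) := by
    intro g hg
    obtain ⟨o, ho, m, hm, rfl⟩ := hsplit g hg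
    refine mul_mem (centralizer_le_normalizer (H : Set G) (mem_centralizer_iff.2 fun h hh => ?_)) hm
    have hMn : M.Normal := Subgroup.normalClosure_normal
    have h1 : o * h * o⁻¹ * h⁻¹ ∈ M :=
      mul_mem (hMn.conj_mem h (hHM hh) o) (inv_mem (hHM hh))
    have h2 : o * h * o⁻¹ * h⁻¹ ∈ O := by
      have e : o * h * o⁻¹ * h⁻¹ = o * (h * o⁻¹ * h⁻¹) := by group
      rw [e]
      exact mul_mem ho ((mem_normalizer_iff.1 (hON h (hcomm h hh a haH)) _).1 (inv_mem ho))
    have h3 := hOM _ h2 h1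
    rw [mul_inv_eq_one, mul_inv_eq_iff_eq_mul] at h3
    exact h3.symm
  rw [eq_top_iff]
  intro g _
  rw [mem_normalizer_iff_map_conj_eq]
  refine eq_of_le_of_card_ge ?_ (le_of_eq (card_map_of_injective (MulEquiv.injective _)).symm)
  rintro _ ⟨h, hh, rfl⟩
  have hgM : g * h * g⁻¹ ∈ M := Subgroup.normalClosure_normal.conj_mem h (hHM hh) g
  exact (hcl g).le ⟨mem_sup_right ⟨h, hh, rfl⟩, hCN _ (hMa _ hgM)⟩

/-- If `H` is an extremely closed abelian 2-subgroup, then `G = N(H) O(G)`. -/
theorem normalizer_sup_oddCore (hH : IsPGroup 2 H) (hab : IsMulCommutative H)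
    (hcl : IsExtremelyClosed H) : normalizer (H : Set G) ⊔ oddCore G = ⊤ :=
  main_aux _ G H le_rfl hH hab hcl

end CfsgLib.LocalEven.ExtClosed
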